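import Groth.Agent.L22.FibreBound
import Groth.Agent.L06.Constr
import Groth.Agent.L19.AlgGrpBasic.OrbitDim
import Groth.Agent.L08.Borel.Points
import Groth.Agent.L08.Borel.Dominant

/-!
# Dimensions of subsets of schemes of finite type over a field, through closures of points
-/

set_option autoImplicit false
set_option linter.style.haveILetI false
set_option backward.isDefEq.respectTransparency.types false

universe u

open CategoryTheory CategoryTheory.Limits MonoidalCategory CartesianMonoidalCategory AlgebraicGeometry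
open TopologicalSpace Topology

namespace Groth.L06.Kleiman

variable {k : Type u} [Field k]

/-- every point of `S` has closure of dimension at most `m` -/
def DimLE {T : Type*} [TopologicalSpace T] (S : Set T) (m : ℕ) : Prop :=
  ∀ ξ ∈ S, topologicalKrullDim (closure ({ξ} : Set T)) ≤ (m : WithBot ℕ∞)

theorem DimLE.mono {T : Type*} [TopologicalSpace T] {S S' : Set T} {m m' : ℕ} (h : DimLE S m) (hs : S' ⊆ S)
    (hm : m ≤ m') : DimLE S' m' :=
  fun ξ hξ => (h ξ (hs hξ)).trans (by exact_mod_cast hm)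

theorem dimLE_of_isClosed {T : Type*} [TopologicalSpace T] {S : Set T} (hS : IsClosed S) {m : ℕ}
    (h : topologicalKrullDim S ≤ (m : WithBot ℕ∞)) : DimLE S m :=
  fun _ hξ => (Groth.L03.Euler.topologicalKrullDim_set_mono (closure_minimal (Set.singleton_subset_iff.2 hξ) hS)).trans h

theorem dimLE_of_components {T : Type*} [TopologicalSpace T] {S : Set T} (hS : IsClosed S) {m : ℕ}
    (h : ∀ C ∈ irreducibleComponents ↥S, topologicalKrullDim ↥C ≤ (m : WithBot ℕ∞)) : DimLE S m := by
  intro ξ hξ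
  obtain ⟨C, hC, hCs⟩ := exists_mem_irreducibleComponents_subset_of_isIrreducible
    (closure ({⟨ξ, hξ⟩} : Set ↥S)) isIrreducible_singleton.closure
  refine le_trans ?_ (h C hC)
  let ι : ↥(closure ({ξ} : Set T)) → C := fun w =>
    ⟨⟨w.1, closure_minimal (Set.singleton_subset_iff.2 hξ) hS w.2⟩, hCs (by
      rw [IsInducing.subtypeVal.closure_eq_preimage_closure_image, Set.image_singleton]
      exact w.2)⟩
  have hι : IsInducing ι := (IsInducing.subtypeVal.codRestrict _).codRestrict _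
  exact hι.topologicalKrullDim_le

variable {A B : Over (Spec (CommRingCat.of k))} [LocallyOfFiniteType A.hom] [LocallyOfFiniteType B.hom]

theorem exists_cdim (ξ : A.left) : ∃ n : ℕ, topologicalKrullDim (closure ({ξ} : Set A.left)) = (n : WithBot ℕ∞) := by
  letI : A.left.Over (Spec (CommRingCat.of k)) := ⟨A.hom⟩
  haveI : LocallyOfFiniteType (A.left ↘ Spec (CommRingCat.of k)) := ‹LocallyOfFiniteType A.hom›
  obtain ⟨n, hn, -⟩ := Groth.L22.SchemeDim.exists_dim_closure_eq_trdeg k A.left ξ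
  exact ⟨n, hn⟩

omit [LocallyOfFiniteType A.hom] in
theorem cdim_mono {ξ η : A.left} (h : ξ ⤳ η) :
    topologicalKrullDim (closure ({η} : Set A.left)) ≤ topologicalKrullDim (closure ({ξ} : Set A.left)) :=
  Groth.L03.Euler.topologicalKrullDim_set_mono
    (closure_minimal (Set.singleton_subset_iff.2 (specializes_iff_mem_closure.1 h)) isClosed_closure)

omit [LocallyOfFiniteType A.hom] in
theorem cdim_closed {x : A.left} (hx : IsClosed ({x} : Set A.left)) :
    topologicalKrullDim (closure ({x} : Set A.left)) = ((0 : ℕ) : WithBot ℕ∞) := by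
  rw [hx.closure_eq]
  haveI : Nonempty ({x} : Set A.left) := ⟨⟨x, rfl⟩⟩
  refine le_antisymm ?_ Groth.L06.Dim.nonneg
  exact topologicalKrullDim_zero_of_discreteTopology ({x} : Set A.left)

theorem exists_fibre_point {f : A ⟶ B} {ξ : A.left} {U : Set A.left} (hU : IsOpen U) (hξU : ξ ∈ U)
    {S : Set A.left} (hS : closure ({ξ} : Set A.left) ∩ U ⊆ S) {n m : ℕ}
    (hn : topologicalKrullDim (closure ({f.left ξ} : Set B.left)) ≤ (n : WithBot ℕ∞))
    (hm : ∀ x ∈ S, IsClosed ({x} : Set A.left) → DimLE (S ∩ f.left ⁻¹' {f.left x}) m) :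
    topologicalKrullDim (closure ({ξ} : Set A.left)) ≤ ((n + m : ℕ) : WithBot ℕ∞) := by
  haveI : JacobsonSpace A.left := LocallyOfFiniteType.jacobsonSpace A.hom
  obtain ⟨x, ⟨hxc, hxU⟩, hx⟩ := nonempty_inter_closedPoints
    (Z := closure ({ξ} : Set A.left) ∩ U) ⟨ξ, subset_closure rfl, hξU⟩
    (isClosed_closure.isLocallyClosed.inter hU.isLocallyClosed)
  letI : A.left.Over (Spec (CommRingCat.of k)) := ⟨A.hom⟩
  letI : B.left.Over (Spec (CommRingCat.of k)) := ⟨B.hom⟩
  haveI : LocallyOfFiniteType (A.left ↘ Spec (CommRingCat.of k)) := ‹LocallyOfFiniteType A.hom›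
  haveI : LocallyOfFiniteType (B.left ↘ Spec (CommRingCat.of k)) := ‹LocallyOfFiniteType B.hom›
  obtain ⟨z, cξ, aξ, cz, a, hξz, hzx, hzf, h1, h2, h3, -, hle⟩ :=
    Groth.L22.FibreBound.exists_fibre_ge k f.left (Over.w f) (specializes_iff_mem_closure.2 hxc)
  have hzS : z ∈ S := hS ⟨specializes_iff_mem_closure.1 hξz, hzx.mem_open hU hxU⟩
  have h4 := hm x (hS ⟨hxc, hxU⟩) hx z ⟨hzS, hzf⟩
  rw [h1]
  rw [h2] at hn
  rw [h3] at h4
  have e1 : aξ ≤ n := by exact_mod_cast hn
  have e2 : cz ≤ m := by exact_mod_cast h4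
  exact_mod_cast show cξ ≤ n + m by omega

/-- the dimension is bounded by the dimensions of the image and of the closed fibres -/
theorem dimLE_of_fibres (f : A ⟶ B) {S : Set A.left} (hS : IsConstructible S) {T : Set B.left}
    (hST : Set.MapsTo f.left S T) {n m : ℕ} (hT : DimLE T n)
    (hm : ∀ x ∈ S, IsClosed ({x} : Set A.left) → DimLE (S ∩ f.left ⁻¹' {f.left x}) m) :
    DimLE S (n + m) := by
  intro ξ hξ
  obtain ⟨U, hU, ⟨y, hyU, hy⟩, hUS⟩ := Groth.L06.Constr.exists_open_inter_subset' hS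
    (Z := closure ({ξ} : Set A.left)) isIrreducible_singleton.closure
    (closure_mono (Set.singleton_subset_iff.2 ⟨hξ, subset_closure rfl⟩))
  exact exists_fibre_point hU ((specializes_iff_mem_closure.2 hy).mem_open hU hyU)
    (by rwa [Set.inter_comm]) (hT _ (hST hξ)) hm

theorem dimLE_image (f : A ⟶ B) {S : Set A.left} {m : ℕ} (hS : DimLE S m) : DimLE (f.left '' S) m := by
  haveI : JacobsonSpace A.left := LocallyOfFiniteType.jacobsonSpace A.hom
  rintro _ ⟨ξ, hξ, rfl⟩
  letI : A.left.Over (Spec (CommRingCat.of k)) := ⟨A.hom⟩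
  letI : B.left.Over (Spec (CommRingCat.of k)) := ⟨B.hom⟩
  haveI : LocallyOfFiniteType (A.left ↘ Spec (CommRingCat.of k)) := ‹LocallyOfFiniteType A.hom›
  haveI : LocallyOfFiniteType (B.left ↘ Spec (CommRingCat.of k)) := ‹LocallyOfFiniteType B.hom›
  obtain ⟨D, hξD, hD⟩ := Groth.L22.FibreBound.exists_generic_bound k f.left (Over.w f) ξ
  obtain ⟨x, ⟨hxc, hxD⟩, hx⟩ := nonempty_inter_closedPoints
    (Z := closure ({ξ} : Set A.left) ∩ D) ⟨ξ, subset_closure rfl, hξD⟩
    (isClosed_closure.isLocallyClosed.inter D.2.isLocallyClosed)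
  obtain ⟨cξ, h1⟩ := exists_cdim ξ
  obtain ⟨aξ, h2⟩ := exists_cdim (f.left ξ)
  obtain ⟨a, h3⟩ := exists_cdim (f.left x)
  have e : a ≤ 0 := by
    haveI : JacobsonSpace B.left := LocallyOfFiniteType.jacobsonSpace B.hom
    haveI : LocallyOfFiniteType f.left := by
      haveI : LocallyOfFiniteType (f.left ≫ B.hom) := by rw [Over.w]; infer_instance
      exact locallyOfFiniteType_of_comp f.left B.hom
    have := f.left.closePoints_subset_preimage_closedPoints hx
    have h4 := cdim_closed (A := B) this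
    rw [h3] at h4
    exact_mod_cast h4.le
  have := hD x hxD (specializes_iff_mem_closure.2 hxc) cξ aξ 0 a h1 h2 (cdim_closed hx) h3
  have h5 := hS ξ hξ
  rw [h1] at h5
  rw [h2]
  have : cξ ≤ m := by exact_mod_cast h5
  exact_mod_cast show aξ ≤ m by omega

omit [LocallyOfFiniteType B.hom] in
theorem not_dense_of_dimLE [IrreducibleSpace A.left] {S : Set A.left} (hS : IsConstructible S) {m : ℕ}
    (h : DimLE S m) (hm : ¬ topologicalKrullDim A.left ≤ (m : WithBot ℕ∞)) : closure S ≠ Set.univ := by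
  intro e
  obtain ⟨U, hU, ⟨y, hyU, -⟩, hUS⟩ := Groth.L06.Constr.exists_open_inter_subset' hS
    (Z := Set.univ) (IrreducibleSpace.isIrreducible_univ _) (by rw [Set.inter_univ, e])
  have hη : genericPoint A.left ∈ S :=
    hUS ⟨((genericPoint_spec A.left).specializes (Set.mem_univ y)).mem_open hU hyU, trivial⟩
  apply hm
  have h1 := h _ hη
  rwa [genericPoint_closure, (Homeomorph.Set.univ A.left).isHomeomorph.topologicalKrullDim_eq] at h1

omit [LocallyOfFiniteType B.hom] in
theorem dimLE_subsingleton_pts [IsAlgClosed k] {S C : Set A.left} (hC : IsClosed C) (hSC : S ⊆ C)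
    (h : ∀ x y : 𝟙_ (Over (Spec (CommRingCat.of k))) ⟶ A, Groth.L08.Borel.ptOf x ∈ C →
      Groth.L08.Borel.ptOf y ∈ C → x = y) : DimLE S 0 := by
  intro ξ hξ
  obtain ⟨x, hx⟩ := Groth.L08.Borel.exists_pt_mem hC.isLocallyClosed ⟨ξ, hSC hξ⟩
  have hsub : C ⊆ {Groth.L08.Borel.ptOf x} :=
    Groth.L08.Borel.subset_of_pts hC (Groth.L08.Borel.isClosed_pt x) fun y hy => by rw [h y x hy hx]; rfl
  obtain rfl : ξ = Groth.L08.Borel.ptOf x := hsub (hSC hξ)
  exact (cdim_closed (Groth.L08.Borel.isClosed_pt x)).le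

end Groth.L06.Kleiman
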