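import Groth.Agent.L06.Kleiman.Orbits
import Groth.Agent.L19.AlgGrpBasic.OrbitDim

/-!
# Translates of closed sets meeting orbit closures properly
-/

set_option autoImplicit false
set_option linter.style.haveILetI false
set_option backward.isDefEq.respectTransparency.types false

universe u

open CategoryTheory CategoryTheory.Limits MonoidalCategory CartesianMonoidalCategory MonObj AlgebraicGeometry
open TopologicalSpace Topology Groth.L08.Borel

namespace Groth.L06.Kleiman

variable {k : Type u} [Field k] [IsAlgClosed k] {G X : Over (Spec (CommRingCat.of k))} [GrpObj G]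
  [LocallyOfFiniteType G.hom] [QuasiCompact G.hom] [LocallyOfFiniteType X.hom] [QuasiCompact X.hom]
  [IrreducibleSpace G.left] (a : AlgGrp.Action G X)

local notation "U1" => 𝟙_ (Over (Spec (CommRingCat.of k)))

/-- the hypothesis that `Y` meets the closure of every orbit in the expected dimension -/
def Proper (a : AlgGrp.Action G X) (Y : Set X.left) (n r : ℕ) : Prop :=
  ∀ (x : 𝟙_ (Over (Spec (CommRingCat.of k))) ⟶ X) (d : ℕ), topologicalKrullDim ↥(closure (orb a x)) = d →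
    ∀ C ∈ irreducibleComponents ↥(Y ∩ closure (orb a x)),
      n ≤ r + d ∧ topologicalKrullDim ↥C = ((r + d - n : ℕ) : WithBot ℕ∞)

omit [IsAlgClosed k] [LocallyOfFiniteType G.hom] [QuasiCompact G.hom] [QuasiCompact X.hom] in
theorem exists_dim_orbit (x : U1 ⟶ X) :
    ∃ d : ℕ, topologicalKrullDim ↥(closure (orb a x)) = (d : WithBot ℕ∞) := by
  obtain ⟨d, hd⟩ := exists_cdim (A := X) ((a.orbitMap x).left (genericPoint G.left))
  refine ⟨d, ?_⟩
  rw [← hd]
  suffices e : closure ({(a.orbitMap x).left (genericPoint G.left)} : Set X.left) = closure (orb a x) by rw [e]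
  refine (closure_mono (t := orb a x) (Set.singleton_subset_iff.2 ⟨genericPoint G.left, rfl⟩)).antisymm
    (closure_minimal ?_ isClosed_closure)
  rintro _ ⟨w, rfl⟩
  exact specializes_iff_mem_closure.1
    (((genericPoint_spec G.left).specializes trivial).map (a.orbitMap x).left.continuous)

omit [QuasiCompact G.hom] [QuasiCompact X.hom] [IsAlgClosed k] [GrpObj G] [LocallyOfFiniteType G.hom]
  [LocallyOfFiniteType X.hom] [IrreducibleSpace G.left] in
theorem Proper.dimLE [GrpObj G] {a : AlgGrp.Action G X} {Y : Set X.left} {n r : ℕ} (hY : IsClosed Y) (h : Proper a Y n r)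
    (x : U1 ⟶ X) {d : ℕ} (hd : topologicalKrullDim ↥(closure (orb a x)) = (d : WithBot ℕ∞)) :
    DimLE (Y ∩ orb a x) (r + d - n) ∧ ((Y ∩ orb a x).Nonempty → n ≤ r + d) := by
  refine ⟨(dimLE_of_components (hY.inter isClosed_closure) fun C hC => (h x d hd C hC).2.le).mono
    (Set.inter_subset_inter_right _ subset_closure) le_rfl, fun ⟨p, hp⟩ => ?_⟩
  exact (h x d hd _ (irreducibleComponent_mem_irreducibleComponents
    (⟨p, hp.1, subset_closure hp.2⟩ : ↥(Y ∩ closure (orb a x))))).1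

omit [IsAlgClosed k] in
theorem dim_orbit_le (x : U1 ⟶ X) {gd d : ℕ} (hg : topologicalKrullDim G.left = (gd : WithBot ℕ∞))
    (hd : topologicalKrullDim ↥(closure (orb a x)) = (d : WithBot ℕ∞)) : d ≤ gd := by
  have h1 : DimLE (orb a x) gd := by
    rw [orb, ← Set.image_univ]
    exact dimLE_image (a.orbitMap x) (dimLE_of_isClosed isClosed_univ
      ((Homeomorph.Set.univ G.left).isHomeomorph.topologicalKrullDim_eq.trans_le hg.le))
  have h2 := h1 _ ⟨genericPoint G.left, rfl⟩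
  suffices e : closure ({(a.orbitMap x).left (genericPoint G.left)} : Set X.left) = closure (orb a x) by
    rw [e, hd] at h2
    exact_mod_cast h2
  refine (closure_mono (t := orb a x) (Set.singleton_subset_iff.2 ⟨genericPoint G.left, rfl⟩)).antisymm
    (closure_minimal ?_ isClosed_closure)
  rintro _ ⟨w, rfl⟩
  exact specializes_iff_mem_closure.1
    (((genericPoint_spec G.left).specializes trivial).map (a.orbitMap x).left.continuous)

/-- the incidence set of one orbit -/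
abbrev incO (Y₁ Y₂ : Set X.left) (x : 𝟙_ (Over (Spec (CommRingCat.of k))) ⟶ X) : Set (G ⊗ X).left :=
  inc a (Y₁ ∩ orb a x) (Y₂ ∩ orb a x)

omit [IrreducibleSpace G.left] in
theorem isLocallyClosed_incO {Y₁ Y₂ : Set X.left} (h1 : IsClosed Y₁) (h2 : IsClosed Y₂) (x : U1 ⟶ X) :
    IsLocallyClosed (incO a Y₁ Y₂ x) :=
  isLocallyClosed_inc a (h1.isLocallyClosed.inter (isLocallyClosed_orb a x))
    (h2.isLocallyClosed.inter (isLocallyClosed_orb a x))

theorem dimLE_incO {Y₁ Y₂ : Set X.left} (h1 : IsClosed Y₁) (h2 : IsClosed Y₂) {n r s : ℕ}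
    (p1 : Proper a Y₁ n r) (p2 : Proper a Y₂ n s) (x : U1 ⟶ X) {gd d : ℕ}
    (hg : topologicalKrullDim G.left = (gd : WithBot ℕ∞))
    (hd : topologicalKrullDim ↥(closure (orb a x)) = (d : WithBot ℕ∞)) :
    DimLE (incO a Y₁ Y₂ x) ((r + d - n) + (s + d - n) + (gd - d)) ∧
      ((incO a Y₁ Y₂ x).Nonempty → n ≤ r + d ∧ n ≤ s + d) := by
  refine ⟨dimLE_inc a x (h1.isLocallyClosed.inter (isLocallyClosed_orb a x))
    (h2.isLocallyClosed.inter (isLocallyClosed_orb a x)) Set.inter_subset_right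
    (p1.dimLE h1 x hd).1 (p2.dimLE h2 x hd).1 hg hd (by omega), fun ⟨w, hw⟩ =>
      ⟨(p1.dimLE h1 x hd).2 ⟨_, hw.1⟩, (p2.dimLE h2 x hd).2 ⟨_, hw.2⟩⟩⟩

theorem not_open_dim_lt [IrreducibleSpace X.left] (x : U1 ⟶ X) (hx : ¬ IsOpen (orb a x)) {n d : ℕ}
    (hn : topologicalKrullDim X.left = (n : WithBot ℕ∞))
    (hd : topologicalKrullDim ↥(closure (orb a x)) = (d : WithBot ℕ∞)) : d < n := by
  have hne : closure (orb a x) ≠ Set.univ := fun e => by
    obtain ⟨W, hW, he⟩ := Groth.L19.AlgGrpBasic.exists_open_orbit a x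
    apply hx
    rw [orb, he]
    show IsOpen (W ∩ closure (orb a x))
    rw [e, Set.inter_univ]
    exact hW
  have h := Groth.L03.Euler.topologicalKrullDim_add_one_le isClosed_closure
    (IrreducibleSpace.isIrreducible_univ X.left) (Set.subset_univ _) hne
  rw [hd, (Homeomorph.Set.univ X.left).isHomeomorph.topologicalKrullDim_eq, hn] at h
  have h' : d + 1 ≤ n := by exact_mod_cast h
  omega

omit [LocallyOfFiniteType G.hom] [QuasiCompact G.hom] [LocallyOfFiniteType X.hom] [QuasiCompact X.hom] in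
theorem exists_open_forall {I : Type*} (t : Finset I) (P : I → G.left → Prop)
    (h : ∀ i ∈ t, ∃ V : G.left.Opens, (V : Set G.left).Nonempty ∧ ∀ p ∈ V, P i p) :
    ∃ V : G.left.Opens, (V : Set G.left).Nonempty ∧ ∀ p ∈ V, ∀ i ∈ t, P i p := by
  classical
  induction t using Finset.induction with
  | empty => exact ⟨⊤, ⟨genericPoint G.left, trivial⟩, fun p _ i hi => absurd hi (Finset.notMem_empty i)⟩
  | insert i t hi ih =>
    obtain ⟨V, ⟨p, hp⟩, hV⟩ := ih fun j hj => h j (Finset.mem_insert_of_mem hj)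
    obtain ⟨U, ⟨q, hq⟩, hU⟩ := h i (Finset.mem_insert_self i t)
    refine ⟨U ⊓ V, ⟨genericPoint G.left, ((genericPoint_spec G.left).specializes trivial).mem_open U.2 hq,
      ((genericPoint_spec G.left).specializes trivial).mem_open V.2 hp⟩, fun z hz j hj => ?_⟩
    rcases Finset.mem_insert.1 hj with rfl | hj
    · exact hU z hz.1
    · exact hV z hz.2 j hj

theorem exists_open_subset_openOrbit [IrreducibleSpace X.left]
    (hfin : Set.Finite {S : Set X.left | ∃ x : U1 ⟶ X, S = orb a x}) {Y₁ Y₂ : Set X.left} (h1 : IsClosed Y₁)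
    (h2 : IsClosed Y₂) {n r s : ℕ} (hn : topologicalKrullDim X.left = (n : WithBot ℕ∞)) (hrs : r + s = n)
    (p1 : Proper a Y₁ n r) (p2 : Proper a Y₂ n s) :
    ∃ V : G.left.Opens, (V : Set G.left).Nonempty ∧
      ∀ σ : U1 ⟶ G, ptOf σ ∈ V → ∀ x₀ : U1 ⟶ X, IsOpen (orb a x₀) →
        (Groth.L08.Homog.A a σ).left '' Y₁ ∩ Y₂ ⊆ orb a x₀ := by
  classical
  letI : G.left.Over (Spec (CommRingCat.of k)) := ⟨G.hom⟩
  haveI : LocallyOfFiniteType (G.left ↘ Spec (CommRingCat.of k)) := ‹LocallyOfFiniteType G.hom›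
  obtain ⟨gd, hg, -⟩ := Groth.L22.SchemeDim.exists_dim_eq_trdeg k G.left
  choose rep hrep using fun O : hfin.toFinset => hfin.mem_toFinset.1 O.2
  obtain ⟨V, hVne, hV⟩ := exists_open_forall (G := G) (Finset.univ (α := hfin.toFinset))
    (fun O p => ¬ IsOpen (orb a (rep O)) → ∀ w ∈ incO a Y₁ Y₂ (rep O), (fst G X).left w ≠ p) (fun O _ => by
      by_cases hO : IsOpen (orb a (rep O))
      · exact ⟨⊤, ⟨genericPoint G.left, trivial⟩, fun p _ h => absurd hO h⟩
      rcases (incO a Y₁ Y₂ (rep O)).eq_empty_or_nonempty with he | he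
      · exact ⟨⊤, ⟨genericPoint G.left, trivial⟩, fun p _ _ w hw => absurd (he ▸ hw) (Set.notMem_empty w)⟩
      obtain ⟨d, hd⟩ := exists_dim_orbit a (rep O)
      obtain ⟨hN, hle⟩ := dimLE_incO a h1 h2 p1 p2 (rep O) hg hd
      have := hle he
      have := not_open_dim_lt a (rep O) hO hn hd
      have := dim_orbit_le a (rep O) hg hd
      obtain ⟨U, hU, hav⟩ := exists_open_avoid (isLocallyClosed_incO a h1 h2 _) hN hg (by omega)
      exact ⟨U, hU, fun p hp _ w hw e => hav w hw (e ▸ hp)⟩)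
  refine ⟨V, hVne, fun σ hσ x₀ hx₀ => ?_⟩
  rintro _ ⟨⟨q, hq1, rfl⟩, hq2⟩
  by_contra hc
  obtain ⟨x, hx⟩ := exists_mem_orb a hfin ((Groth.L08.Homog.A a σ).left q)
  have hxo : ¬ IsOpen (orb a x) := fun h => hc (eq_of_isOpen a x x₀ h hx₀ ▸ hx)
  let O : hfin.toFinset := ⟨orb a x, hfin.mem_toFinset.2 ⟨x, rfl⟩⟩
  have hO : orb a x = orb a (rep O) := hrep O
  have hlc : IsLocallyClosed ((Y₁ ∩ orb a x) ∩ (Groth.L08.Homog.A a σ).left ⁻¹' (Y₂ ∩ orb a x)) :=
    (h1.isLocallyClosed.inter (isLocallyClosed_orb a x)).inter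
      ((h2.isLocallyClosed.inter (isLocallyClosed_orb a x)).preimage (Groth.L08.Homog.A a σ).left.continuous)
  obtain ⟨y, hy1, hy2⟩ := exists_pt_mem hlc
    ⟨q, ⟨hq1, (translate_mem_orb_iff a σ x).1 hx⟩, hq2, hx⟩
  refine hV _ hσ O (Finset.mem_univ O) (hO ▸ hxo) (ptOf (lift σ y)) ⟨?_, ?_⟩ ?_
  · show ptOf (lift σ y ≫ snd G X) ∈ Y₁ ∩ orb a (rep O)
    rw [lift_snd, ← hO]
    exact hy1
  · show ptOf (lift σ y ≫ a.act) ∈ Y₂ ∩ orb a (rep O)
    rw [← hO, show lift σ y ≫ a.act = y ≫ Groth.L08.Homog.A a σ by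
      rw [Groth.L08.Homog.comp_A, toUnit_one, Category.id_comp]]
    exact hy2
  · show ptOf (lift σ y ≫ fst G X) = ptOf σ
    rw [lift_fst]

end Groth.L06.Kleiman
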