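import Groth.Agent.L06.Kleiman.Main
import Groth.Agent.L07.EquidimQF
import Groth.Agent.S19416

/-!
# General translates meet every orbit closure properly
-/

set_option autoImplicit false
set_option linter.style.haveILetI false
set_option backward.isDefEq.respectTransparency.types false

universe u

open CategoryTheory CategoryTheory.Limits MonoidalCategory CartesianMonoidalCategory MonObj AlgebraicGeometry
open TopologicalSpace Topology Groth.L08.Borel

namespace Groth.L06.Kleiman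

section Top

variable {T : Type*} [TopologicalSpace T]

theorem dim_image_homeomorph (φ : T ≃ₜ T) (S : Set T) : topologicalKrullDim ↥(φ '' S) = topologicalKrullDim ↥S :=
  ((φ.image S).isHomeomorph.topologicalKrullDim_eq).symm

theorem dim_image_val {K : Set T} (C : Set ↥K) :
    topologicalKrullDim ↥((Subtype.val : K → T) '' C) = topologicalKrullDim ↥C := by
  have h : IsEmbedding fun c : C => (c.1.1 : T) := IsEmbedding.subtypeVal.comp IsEmbedding.subtypeVal
  exact Groth.L22.SchemeDim.topologicalKrullDim_eq_of_isEmbedding h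
    (by ext t; simp [Set.range, Set.mem_image])

/-- a component of `K` lying in `L ⊆ K` is a component of `L` -/
theorem exists_component_of_subset [QuasiSober T] {K L : Set T} (hK : IsClosed K) (hL : IsClosed L)
    (hLK : L ⊆ K) {C : Set ↥K} (hC : C ∈ irreducibleComponents ↥K) (hCL : ∀ c ∈ C, (c : T) ∈ L) :
    ∃ Z ∈ irreducibleComponents ↥L, topologicalKrullDim ↥Z = topologicalKrullDim ↥C := by
  haveI : QuasiSober ↥K := hK.isClosedEmbedding_subtypeVal.quasiSober
  obtain ⟨ξ, hξ⟩ := QuasiSober.sober hC.1 (isClosed_of_mem_irreducibleComponents C hC)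
  have hξC : ξ ∈ C := hξ.mem
  obtain ⟨Z, hZ, hsub⟩ := exists_mem_irreducibleComponents_subset_of_isIrreducible
    ({⟨ξ.1, hCL ξ hξC⟩} : Set ↥L) isIrreducible_singleton
  refine ⟨Z, hZ, ?_⟩
  have hi : IsIrreducible (Set.inclusion hLK '' Z) := hZ.1.image _ (continuous_inclusion hLK).continuousOn
  have h1 : Set.inclusion hLK '' Z ⊆ C := by
    refine subset_closure.trans (hC.2 hi.closure ?_)
    rw [← hξ]
    exact closure_mono (Set.singleton_subset_iff.2 ⟨⟨ξ.1, hCL ξ hξC⟩, hsub rfl, rfl⟩)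
  rw [← dim_image_val, ← dim_image_val (C := C)]
  suffices e : (Subtype.val : L → T) '' Z = (Subtype.val : K → T) '' C by rw [e]
  refine Set.Subset.antisymm ?_ ?_
  · rintro _ ⟨z, hz, rfl⟩
    exact ⟨_, h1 ⟨z, hz, rfl⟩, rfl⟩
  · rw [← hξ, ← hK.isClosedEmbedding_subtypeVal.closure_image_eq, Set.image_singleton]
    exact closure_minimal (Set.singleton_subset_iff.2 ⟨_, hsub rfl, rfl⟩)
      (hL.isClosedEmbedding_subtypeVal.isClosedMap _ (isClosed_of_mem_irreducibleComponents Z hZ))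

end Top

variable {k : Type u} [Field k] [IsAlgClosed k] {G X : Over (Spec (CommRingCat.of k))} [GrpObj G]
  [LocallyOfFiniteType G.hom] [QuasiCompact G.hom] [LocallyOfFiniteType X.hom] [QuasiCompact X.hom]
  [IrreducibleSpace G.left] (a : AlgGrp.Action G X)

local notation "U1" => 𝟙_ (Over (Spec (CommRingCat.of k)))

omit [IsAlgClosed k] [QuasiCompact X.hom] [LocallyOfFiniteType X.hom] [GrpObj G] [IrreducibleSpace G.left] in
theorem exists_open_fibre_bound [IrreducibleSpace G.left] {P : Over (Spec (CommRingCat.of k))}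
    [LocallyOfFiniteType P.hom] [QuasiCompact P.hom] (f : P ⟶ G) {S : Set P.left} (hS : IsLocallyClosed S)
    {M gd : ℕ} (hM : DimLE S M) (hg : topologicalKrullDim G.left = (gd : WithBot ℕ∞)) :
    ∃ V : G.left.Opens, (V : Set G.left).Nonempty ∧ ∀ z ∈ S, f.left z ∈ V →
      IsClosed ({f.left z} : Set G.left) → ∀ c : ℕ,
        topologicalKrullDim (closure ({z} : Set P.left)) = (c : WithBot ℕ∞) → c + gd ≤ M := by
  letI : P.left.Over (Spec (CommRingCat.of k)) := ⟨P.hom⟩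
  letI : G.left.Over (Spec (CommRingCat.of k)) := ⟨G.hom⟩
  haveI : LocallyOfFiniteType (P.left ↘ Spec (CommRingCat.of k)) := ‹LocallyOfFiniteType P.hom›
  haveI : LocallyOfFiniteType (G.left ↘ Spec (CommRingCat.of k)) := ‹LocallyOfFiniteType G.hom›
  haveI := Groth.L19.AlgGrpBasic.noetherianSpace_left (X := P)
  have hgen : ∀ q : G.left, genericPoint G.left ⤳ q := fun q => (genericPoint_spec G.left).specializes trivial
  suffices key : ∀ C : Set P.left, IsClosed C → ∃ V : G.left.Opens, (V : Set G.left).Nonempty ∧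
      ∀ z ∈ S ∩ C, f.left z ∈ V → IsClosed ({f.left z} : Set G.left) → ∀ c : ℕ,
        topologicalKrullDim (closure ({z} : Set P.left)) = (c : WithBot ℕ∞) → c + gd ≤ M by
    obtain ⟨V, hV, h⟩ := key Set.univ isClosed_univ
    exact ⟨V, hV, fun z hz => h z ⟨hz, trivial⟩⟩
  intro C hC
  refine Groth.L06.Constr.closed_induction (P := fun C => ∃ V : G.left.Opens, (V : Set G.left).Nonempty ∧
      ∀ z ∈ S ∩ C, f.left z ∈ V → IsClosed ({f.left z} : Set G.left) → ∀ c : ℕ,
        topologicalKrullDim (closure ({z} : Set P.left)) = (c : WithBot ℕ∞) → c + gd ≤ M) ?_ ?_ ?_ hC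
  · exact ⟨⊤, ⟨genericPoint G.left, trivial⟩, fun z hz => hz.2.elim⟩
  · intro C hCc hCi ih
    obtain ⟨ξ, hξ⟩ := QuasiSober.sober hCi hCc
    have hξC : ξ ∈ C := hξ.mem
    by_cases hξS : ξ ∈ S
    · obtain ⟨D, hξD, hD⟩ := Groth.L22.FibreBound.exists_generic_bound k f.left (Over.w f) ξ
      obtain ⟨cξ, h1⟩ := exists_cdim (A := P) ξ
      obtain ⟨aξ, h2⟩ := exists_cdim (A := G) (f.left ξ)
      have hcM : cξ ≤ M := by
        have := hM ξ hξS
        rw [h1] at this
        exact_mod_cast this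
      by_cases hdom : closure ({f.left ξ} : Set G.left) = Set.univ
      · obtain ⟨V, hV, h⟩ := ih (C \ D) (hCc.sdiff D.2)
          (Groth.L06.Constr.sdiff_ssubset_of_nonempty ⟨ξ, hξD, hξC⟩)
        refine ⟨V, hV, fun z hz hzV hzc c hc => ?_⟩
        by_cases hzD : z ∈ D
        · have hag : aξ = gd := by
            rw [hdom, (Homeomorph.Set.univ G.left).isHomeomorph.topologicalKrullDim_eq, hg] at h2
            exact_mod_cast h2.symm
          have := hD z hzD (specializes_iff_mem_closure.2 (hξ.def.symm ▸ hz.2)) cξ aξ c 0 h1 h2 hc (cdim_closed hzc)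
          omega
        · exact h z ⟨hz.1, hz.2, hzD⟩ hzV hzc c hc
      · refine ⟨⟨_, isClosed_closure.isOpen_compl⟩, Set.nonempty_compl.2 hdom, fun z hz hzV => absurd ?_ hzV⟩
        exact specializes_iff_mem_closure.1
          ((specializes_iff_mem_closure.2 (hξ.def.symm ▸ hz.2)).map f.left.continuous)
    · have hne : closure (S ∩ C) ≠ C := fun e => hξS <| by
        obtain ⟨U, Z, hU, hZ, rfl⟩ := hS
        have hmem : ξ ∈ closure (U ∩ Z ∩ C) := by rw [e]; exact hξC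
        obtain ⟨w, hwU, ⟨-, hwC⟩⟩ : ∃ w, w ∈ U ∧ w ∈ Z ∧ w ∈ C := by
          obtain ⟨w, hw⟩ := closure_nonempty_iff.1 ⟨ξ, hmem⟩
          exact ⟨w, hw.1.1, hw.1.2, hw.2⟩
        exact ⟨(specializes_iff_mem_closure.2 (hξ.def.symm ▸ hwC)).mem_open hU hwU,
          closure_minimal (fun w hw => hw.1.2) hZ hmem⟩
      obtain ⟨V, hV, h⟩ := ih (closure (S ∩ C)) isClosed_closure
        ((closure_minimal Set.inter_subset_right hCc).ssubset_of_ne hne)
      exact ⟨V, hV, fun z hz => h z ⟨hz.1, subset_closure hz⟩⟩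
  · rintro A B - - ⟨U, ⟨p, hp⟩, hU⟩ ⟨V, ⟨q, hq⟩, hV⟩
    refine ⟨U ⊓ V, ⟨genericPoint G.left, (hgen p).mem_open U.2 hp, (hgen q).mem_open V.2 hq⟩, fun z hz hzV => ?_⟩
    rcases hz.2 with h | h
    · exact hU z ⟨hz.1, h⟩ hzV.1
    · exact hV z ⟨hz.1, h⟩ hzV.2

theorem exists_open_upper
    (hfin : Set.Finite {S : Set X.left | ∃ x : U1 ⟶ X, S = orb a x}) {Y₁ Y₂ : Set X.left} (h1 : IsClosed Y₁)
    (h2 : IsClosed Y₂) {n r s : ℕ} (p1 : Proper a Y₁ n r) (p2 : Proper a Y₂ n s) :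
    ∃ V : G.left.Opens, (V : Set G.left).Nonempty ∧
      ∀ σ : U1 ⟶ G, ptOf σ ∈ V → ∀ ξ ∈ (Groth.L08.Homog.A a σ).left '' Y₁ ∩ Y₂, ∀ c : ℕ,
        topologicalKrullDim (closure ({ξ} : Set X.left)) = (c : WithBot ℕ∞) →
          ∃ (x : U1 ⟶ X) (d : ℕ), ξ ∈ orb a x ∧
            topologicalKrullDim ↥(closure (orb a x)) = (d : WithBot ℕ∞) ∧ c + 2 * n ≤ r + s + d := by
  classical
  letI : G.left.Over (Spec (CommRingCat.of k)) := ⟨G.hom⟩
  haveI : LocallyOfFiniteType (G.left ↘ Spec (CommRingCat.of k)) := ‹LocallyOfFiniteType G.hom›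
  haveI : LocallyOfFiniteType (G ⊗ X).hom := Groth.L19.AlgGrpBasic.lft_tensor G X
  haveI : QuasiCompact (G ⊗ X).hom := Groth.L19.AlgGrpBasic.qc_tensor G X
  obtain ⟨gd, hg, -⟩ := Groth.L22.SchemeDim.exists_dim_eq_trdeg k G.left
  choose rep hrep using fun O : hfin.toFinset => hfin.mem_toFinset.1 O.2
  obtain ⟨V, hVne, hV⟩ := exists_open_forall (G := G) (Finset.univ (α := hfin.toFinset))
    (fun O p => ∀ d : ℕ, topologicalKrullDim ↥(closure (orb a (rep O))) = (d : WithBot ℕ∞) →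
      ∀ w ∈ incO a Y₁ Y₂ (rep O), (fst G X).left w = p → IsClosed ({p} : Set G.left) → ∀ c : ℕ,
        topologicalKrullDim (closure ({w} : Set (G ⊗ X).left)) = (c : WithBot ℕ∞) → c + 2 * n ≤ r + s + d)
    (fun O _ => by
      rcases (incO a Y₁ Y₂ (rep O)).eq_empty_or_nonempty with he | he
      · exact ⟨⊤, ⟨genericPoint G.left, trivial⟩, fun p _ d _ w hw => absurd (he ▸ hw) (Set.notMem_empty w)⟩
      obtain ⟨d, hd⟩ := exists_dim_orbit a (rep O)
      obtain ⟨hN, hle⟩ := dimLE_incO a h1 h2 p1 p2 (rep O) hg hd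
      have := hle he
      have := dim_orbit_le a (rep O) hg hd
      obtain ⟨U, hU, hb⟩ := exists_open_fibre_bound (P := G ⊗ X) (fst G X)
        (isLocallyClosed_incO a h1 h2 (rep O)) hN hg
      refine ⟨U, hU, fun p hp d' hd' w hw e hc c hcw => ?_⟩
      obtain rfl : d' = d := by exact_mod_cast hd'.symm.trans hd
      have := hb w hw (e ▸ hp) (e ▸ hc) c hcw
      omega)
  refine ⟨V, hVne, fun σ hσ ξ hξ c hc => ?_⟩
  obtain ⟨⟨q, hq1, rfl⟩, hq2⟩ := hξ
  obtain ⟨x, hx⟩ := exists_mem_orb a hfin ((Groth.L08.Homog.A a σ).left q)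
  let O : hfin.toFinset := ⟨orb a x, hfin.mem_toFinset.2 ⟨x, rfl⟩⟩
  have hO : orb a x = orb a (rep O) := hrep O
  obtain ⟨d, hd⟩ := exists_dim_orbit a x
  refine ⟨x, d, hx, hd, ?_⟩
  let j : X ⟶ G ⊗ X := lift (toUnit X ≫ σ) (𝟙 X)
  have hj2 : (snd G X).left (j.left q) = q := congr(($(lift_snd (toUnit X ≫ σ) (𝟙 X))).left q)
  have hj1 : (fst G X).left (j.left q) = ptOf σ := by
    refine (congr(($(lift_fst (toUnit X ≫ σ) (𝟙 X))).left q)).trans ?_
    exact congrArg σ.left (Subsingleton.elim (α := PrimeSpectrum k) _ _)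
  have hja : a.act.left (j.left q) = (Groth.L08.Homog.A a σ).left q := rfl
  have hw : j.left q ∈ incO a Y₁ Y₂ (rep O) := by
    refine ⟨?_, ?_⟩
    · show (snd G X).left (j.left q) ∈ Y₁ ∩ orb a (rep O)
      rw [hj2, ← hO]
      exact ⟨hq1, (translate_mem_orb_iff a σ x).1 hx⟩
    · show a.act.left (j.left q) ∈ Y₂ ∩ orb a (rep O)
      rw [hja, ← hO]
      exact ⟨hq2, hx⟩
  obtain ⟨cw, hcw⟩ := exists_cdim (A := G ⊗ X) (j.left q)
  have hb := hV _ hσ O (Finset.mem_univ O) d (hO ▸ hd) _ hw hj1 (isClosed_pt σ) cw hcw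
  have himg := dimLE_image a.act (S := {j.left q}) (m := cw) (by rintro _ rfl; exact hcw.le)
    ((Groth.L08.Homog.A a σ).left q) ((Set.mem_image _ _ _).2 ⟨j.left q, rfl, hja⟩)
  rw [hc] at himg
  have : c ≤ cw := by exact_mod_cast himg
  omega

theorem orb_subset_closure (x y : U1 ⟶ X) {ξ : X.left} (h1 : ξ ∈ orb a y) (h2 : ξ ∈ closure (orb a x)) :
    orb a y ⊆ closure (orb a x) := by
  obtain ⟨z, hz1, hz2⟩ := exists_pt_mem ((isLocallyClosed_orb a y).inter isClosed_closure.isLocallyClosed)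
    ⟨ξ, h1, h2⟩
  rw [← orb_eq_of_mem a y z hz1]
  rintro _ ⟨w, rfl⟩
  refine subset_of_pts (X := G) isClosed_univ (isClosed_closure.preimage (a.orbitMap z).left.continuous)
    (fun g _ => ?_) (Set.mem_univ w)
  show ptOf (g ≫ a.orbitMap z) ∈ closure (orb a x)
  rw [pt_orbitMap, show lift g z ≫ a.act = z ≫ Groth.L08.Homog.A a g by
    rw [Groth.L08.Homog.comp_A, toUnit_one, Category.id_comp]]
  show (Groth.L08.Homog.A a g).left (ptOf z) ∈ closure (orb a x)
  exact map_mem_closure (Groth.L08.Homog.A a g).left.continuous hz2 fun w hw => translate_mem_orb a g x hw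

omit [LocallyOfFiniteType X.hom] [QuasiCompact X.hom] [IrreducibleSpace G.left] [QuasiCompact G.hom] in
theorem translate_mem_closure_iff (σ : U1 ⟶ G) (x : U1 ⟶ X) {q : X.left} :
    (Groth.L08.Homog.A a σ).left q ∈ closure (orb a x) ↔ q ∈ closure (orb a x) := by
  refine ⟨fun h => ?_, fun h => map_mem_closure (Groth.L08.Homog.A a σ).left.continuous h
    fun w hw => translate_mem_orb a σ x hw⟩
  have h' := map_mem_closure (Groth.L08.Homog.A a σ⁻¹).left.continuous h
    fun w hw => translate_mem_orb a σ⁻¹ x hw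
  rwa [show (Groth.L08.Homog.A a σ⁻¹).left ((Groth.L08.Homog.A a σ).left q) = q from
    congr(($(A_inv a σ)).left q)] at h'

theorem exists_open_proper [IsIntegral X.left] [IsSeparated X.hom] [Smooth X.hom]
    (hfin : Set.Finite {S : Set X.left | ∃ x : U1 ⟶ X, S = orb a x}) {Y₁ Y₂ : Set X.left} (h1 : IsClosed Y₁)
    (h1i : IsIrreducible Y₁) (h2 : IsClosed Y₂) (h2i : IsIrreducible Y₂) {n r s : ℕ}
    (hn : topologicalKrullDim X.left = (n : WithBot ℕ∞)) (hr : topologicalKrullDim ↥Y₁ = (r : WithBot ℕ∞))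
    (hs : topologicalKrullDim ↥Y₂ = (s : WithBot ℕ∞)) (p1 : Proper a Y₁ n r) (p2 : Proper a Y₂ n s) :
    ∃ V : G.left.Opens, (V : Set G.left).Nonempty ∧
      ∀ σ : U1 ⟶ G, ptOf σ ∈ V →
        (∀ C ∈ irreducibleComponents ↥((Groth.L08.Homog.A a σ).left '' Y₁ ∩ Y₂),
          n ≤ r + s ∧ topologicalKrullDim ↥C = ((r + s - n : ℕ) : WithBot ℕ∞)) ∧
        ∀ (x : U1 ⟶ X) (d : ℕ), topologicalKrullDim ↥(closure (orb a x)) = (d : WithBot ℕ∞) →
          ∀ C ∈ irreducibleComponents ↥(((Groth.L08.Homog.A a σ).left '' Y₁ ∩ Y₂) ∩ closure (orb a x)),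
            2 * n ≤ r + s + d ∧ topologicalKrullDim ↥C = ((r + s + d - 2 * n : ℕ) : WithBot ℕ∞) := by
  obtain ⟨V, hVne, hV⟩ := exists_open_upper a hfin h1 h2 p1 p2
  refine ⟨V, hVne, fun σ hσ => ?_⟩
  haveI := Groth.L08.Homog.isIso_A a σ
  let φ : X.left ≃ₜ X.left := (Groth.L08.Homog.A a σ).left.homeomorph
  have hc1 : IsClosed ((Groth.L08.Homog.A a σ).left '' Y₁) := φ.isClosedMap _ h1
  have hlb : ∀ (Y : Set X.left), IsClosed Y → IsIrreducible Y → ∀ (e : ℕ),
      topologicalKrullDim ↥Y = (e : WithBot ℕ∞) → ∀ Z ∈ irreducibleComponents ↥(Y ∩ Y₂),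
        ((e + s : ℕ) : WithBot ℕ∞) ≤ topologicalKrullDim ↥Z + n := fun Y hY hYi e he Z hZ =>
    Groth.Agent.S19416.result k X.left X.hom n e s hn Y Y₂ hY hYi h2 h2i he hs Z hZ
  have hup : ∀ {K : Set X.left} {D : ℕ}, (∀ ξ ∈ K, ∀ (y : U1 ⟶ X) (d : ℕ), ξ ∈ orb a y →
      topologicalKrullDim ↥(closure (orb a y)) = (d : WithBot ℕ∞) → d ≤ D) → IsClosed K →
      K ⊆ (Groth.L08.Homog.A a σ).left '' Y₁ ∩ Y₂ → ∀ C ∈ irreducibleComponents ↥K,
      ∃ c : ℕ, topologicalKrullDim ↥C = (c : WithBot ℕ∞) ∧ c + 2 * n ≤ r + s + D := by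
    intro K D hD hK hKs C hC
    haveI : QuasiSober ↥K := hK.isClosedEmbedding_subtypeVal.quasiSober
    obtain ⟨ξ, hξ⟩ := QuasiSober.sober hC.1 (isClosed_of_mem_irreducibleComponents C hC)
    obtain ⟨c, hc⟩ := exists_cdim (A := X) ξ.1
    obtain ⟨y, d, hy, hd, hb⟩ := hV σ hσ ξ.1 (hKs ξ.2) c hc
    refine ⟨c, ?_, by have := hD ξ.1 ξ.2 y d hy hd; omega⟩
    rw [← dim_image_val, ← hξ, ← hK.isClosedEmbedding_subtypeVal.closure_image_eq, Set.image_singleton]
    exact hc
  refine ⟨fun C hC => ?_, fun x d hd C hC => ?_⟩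
  · obtain ⟨c, hc, hcn⟩ := hup (D := n) (fun ξ _ y d _ hd => by
      have := Groth.L03.Euler.topologicalKrullDim_set_mono (Set.subset_univ (closure (orb a y)))
      rw [hd, (Homeomorph.Set.univ X.left).isHomeomorph.topologicalKrullDim_eq, hn] at this
      exact_mod_cast this) (hc1.inter h2) subset_rfl C hC
    have hl := hlb _ hc1 (h1i.image _ (Groth.L08.Homog.A a σ).left.continuous.continuousOn) r
      ((dim_image_homeomorph φ Y₁).trans hr) C hC
    rw [hc] at hl ⊢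
    have : r + s ≤ c + n := by exact_mod_cast hl
    exact ⟨by omega, by exact_mod_cast (show c = r + s - n by omega)⟩
  · let K := ((Groth.L08.Homog.A a σ).left '' Y₁ ∩ Y₂) ∩ closure (orb a x)
    have hK : IsClosed K := (hc1.inter h2).inter isClosed_closure
    obtain ⟨c, hc, hcn⟩ := hup (D := d) (fun ξ hξ y d' hy hd' => by
      have := Groth.L03.Euler.topologicalKrullDim_set_mono
        (closure_minimal (orb_subset_closure a x y hy hξ.2) isClosed_closure)
      rw [hd', hd] at this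
      exact_mod_cast this) hK Set.inter_subset_left C hC
    haveI : QuasiSober ↥K := hK.isClosedEmbedding_subtypeVal.quasiSober
    obtain ⟨ξ, hξ⟩ := QuasiSober.sober hC.1 (isClosed_of_mem_irreducibleComponents C hC)
    obtain ⟨⟨q, hq, hqe⟩, -⟩ := ξ.2.1
    have hqc : q ∈ closure (orb a x) := (translate_mem_closure_iff a σ x).1 (hqe ▸ ξ.2.2)
    let Q := Y₁ ∩ closure (orb a x)
    have hQ : IsClosed Q := h1.inter isClosed_closure
    let C₀ : Set ↥Q := irreducibleComponent ⟨q, hq, hqc⟩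
    obtain ⟨hle, hdim⟩ := p1 x d hd C₀ (irreducibleComponent_mem_irreducibleComponents _)
    let C₁ : Set X.left := φ '' ((Subtype.val : Q → X.left) '' C₀)
    have hC₁c : IsClosed C₁ := φ.isClosedMap _ (hQ.isClosedEmbedding_subtypeVal.isClosedMap _ isClosed_irreducibleComponent)
    have hC₁i : IsIrreducible C₁ :=
      (isIrreducible_irreducibleComponent.image _ continuous_subtype_val.continuousOn).image _ φ.continuous.continuousOn
    have hC₁d : topologicalKrullDim ↥C₁ = ((r + d - n : ℕ) : WithBot ℕ∞) :=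
      (dim_image_homeomorph φ _).trans ((dim_image_val C₀).trans hdim)
    have hsub : C₁ ⊆ (Groth.L08.Homog.A a σ).left '' Y₁ ∩ closure (orb a x) := by
      rintro _ ⟨_, ⟨w, -, rfl⟩, rfl⟩
      exact ⟨⟨w.1, w.2.1, rfl⟩, (translate_mem_closure_iff a σ x).2 w.2.2⟩
    have hLK : C₁ ∩ Y₂ ⊆ K := fun w hw => ⟨⟨(hsub hw.1).1, hw.2⟩, (hsub hw.1).2⟩
    have hCL : ∀ w ∈ C, (w : X.left) ∈ C₁ ∩ Y₂ := by
      intro w hw
      refine ⟨?_, w.2.1.2⟩
      have hsp : (ξ : X.left) ⤳ w :=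
        ((specializes_iff_mem_closure.2 (hξ.def.symm ▸ hw)).map continuous_subtype_val)
      exact hsp.mem_closed hC₁c (hqe ▸ ⟨q, ⟨⟨q, hq, hqc⟩, mem_irreducibleComponent, rfl⟩, rfl⟩)
    obtain ⟨Z, hZ, hZd⟩ := exists_component_of_subset hK (hC₁c.inter h2) hLK hC hCL
    have hl := hlb C₁ hC₁c hC₁i _ hC₁d Z hZ
    rw [hZd, hc] at hl
    rw [hc]
    have : r + d - n + s ≤ c + n := by exact_mod_cast hl
    exact ⟨by omega, by exact_mod_cast (show c = r + s + d - 2 * n by omega)⟩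

end Groth.L06.Kleiman
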