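import Groth.Agent.L06.Kleiman.Dim
import Groth.Agent.L19.AlgGrpBasic.Descent
import Groth.Agent.L19.AlgGrpBasic.GeomPoint
import Groth.Agent.L19.AlgGrpBasic.OrbitClosure
import Mathlib.AlgebraicGeometry.Morphisms.FinitePresentation

/-!
# Orbits and incidence sets of translates
-/

set_option autoImplicit false
set_option linter.style.haveILetI false
set_option backward.isDefEq.respectTransparency.types false

universe u

open CategoryTheory CategoryTheory.Limits MonoidalCategory CartesianMonoidalCategory MonObj AlgebraicGeometry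
open TopologicalSpace Topology Groth.L08.Borel

namespace Groth.L06.Kleiman

variable {k : Type u} [Field k] [IsAlgClosed k] {G X : Over (Spec (CommRingCat.of k))} [GrpObj G]
  [LocallyOfFiniteType G.hom] [QuasiCompact G.hom] [LocallyOfFiniteType X.hom] [QuasiCompact X.hom]
  (a : AlgGrp.Action G X)

local notation "U1" => 𝟙_ (Over (Spec (CommRingCat.of k)))

/-- the orbit of a rational point -/
abbrev orb (x : 𝟙_ (Over (Spec (CommRingCat.of k))) ⟶ X) : Set X.left := Set.range (a.orbitMap x).left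

omit [LocallyOfFiniteType G.hom] [QuasiCompact G.hom] [LocallyOfFiniteType X.hom] [QuasiCompact X.hom]
  [IsAlgClosed k] in
theorem toUnit_one : toUnit (U1) = 𝟙 _ := toUnit_unique _ _

omit [LocallyOfFiniteType G.hom] [QuasiCompact G.hom] [LocallyOfFiniteType X.hom] [QuasiCompact X.hom]
  [IsAlgClosed k] in
theorem pt_orbitMap (x : U1 ⟶ X) (g : U1 ⟶ G) : g ≫ a.orbitMap x = lift g x ≫ a.act := by
  rw [Groth.L08.Borel.comp_orbitMap, toUnit_one, Category.id_comp]

omit [LocallyOfFiniteType G.hom] [QuasiCompact G.hom] [LocallyOfFiniteType X.hom] [QuasiCompact X.hom]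
  [IsAlgClosed k] in
theorem mem_orb_self (x : U1 ⟶ X) : ptOf x ∈ orb a x := by
  refine ⟨ptOf (1 : U1 ⟶ G), ?_⟩
  show ptOf ((1 : U1 ⟶ G) ≫ a.orbitMap x) = ptOf x
  rw [pt_orbitMap, Groth.L25.Actions.one_act]

omit [QuasiCompact G.hom] [QuasiCompact X.hom] in
theorem exists_smul_of_mem (x y : U1 ⟶ X) (h : ptOf y ∈ orb a x) : ∃ g : U1 ⟶ G, g ≫ a.orbitMap x = y :=
  exists_pt_lift _ y h

omit [LocallyOfFiniteType G.hom] [QuasiCompact G.hom] [LocallyOfFiniteType X.hom] [QuasiCompact X.hom]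
  [IsAlgClosed k] in
theorem orb_smul (x : U1 ⟶ X) (g : U1 ⟶ G) : orb a (g ≫ a.orbitMap x) = orb a x := by
  have key : ∀ (x : U1 ⟶ X) (g : U1 ⟶ G), orb a (g ≫ a.orbitMap x) ⊆ orb a x := by
    intro x g
    have e : a.orbitMap (g ≫ a.orbitMap x) = Groth.L08.ProfiniteImage.rt g ≫ a.orbitMap x := by
      rw [Groth.L08.ProfiniteImage.rt, pt_orbitMap, Groth.L08.Borel.comp_orbitMap, Groth.L25.Actions.mul_act]
      simp only [AlgGrp.Action.orbitMap, comp_lift_assoc]
    rintro _ ⟨w, rfl⟩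
    exact ⟨(Groth.L08.ProfiniteImage.rt g).left w, (congr(($e).left w)).symm⟩
  refine (key x g).antisymm ?_
  have h := key (g ≫ a.orbitMap x) g⁻¹
  rw [pt_orbitMap a _ g⁻¹, pt_orbitMap a x g, Groth.L25.Actions.inv_act] at h
  rwa [pt_orbitMap a x g]

omit [QuasiCompact G.hom] [QuasiCompact X.hom] in
theorem orb_eq_of_mem (x y : U1 ⟶ X) (h : ptOf y ∈ orb a x) : orb a y = orb a x := by
  obtain ⟨g, rfl⟩ := exists_smul_of_mem a x y h
  exact orb_smul a x g

theorem isLocallyClosed_orb (x : U1 ⟶ X) : IsLocallyClosed (orb a x) := by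
  obtain ⟨W, hW, e⟩ := Groth.L19.AlgGrpBasic.exists_open_orbit a x
  rw [orb, e]
  exact hW.isLocallyClosed.inter isClosed_closure.isLocallyClosed

theorem exists_mem_orb (hfin : Set.Finite {S : Set X.left | ∃ x : U1 ⟶ X, S = orb a x}) (q : X.left) :
    ∃ x : U1 ⟶ X, q ∈ orb a x := by
  haveI := Groth.L19.AlgGrpBasic.noetherianSpace_left (X := X)
  haveI := LocallyOfFiniteType.jacobsonSpace X.hom
  have hc : IsConstructible (⋃ S ∈ {S : Set X.left | ∃ x : U1 ⟶ X, S = orb a x}, S) :=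
    IsConstructible.biUnion hfin (by rintro _ ⟨x, rfl⟩; exact Groth.L19.AlgGrpBasic.isConstructible_range _)
  by_contra hq
  have h0 := Groth.L19.AlgGrpBasic.eq_empty_of_constructible hc.compl (fun p hp hpc => by
    obtain ⟨x, rfl⟩ := Groth.L19.AlgGrpBasic.exists_point_of_closed hpc
    exact hp (Set.mem_biUnion ⟨x, rfl⟩ (mem_orb_self a x)))
  rw [Set.eq_empty_iff_forall_notMem] at h0
  refine h0 q fun h => hq ?_
  obtain ⟨_, ⟨x, rfl⟩, hx⟩ := Set.mem_iUnion₂.1 h
  exact ⟨x, hx⟩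

omit [LocallyOfFiniteType G.hom] [QuasiCompact G.hom] [LocallyOfFiniteType X.hom] [QuasiCompact X.hom]
  [IsAlgClosed k] in
theorem translate_mem_orb (σ : U1 ⟶ G) (x : U1 ⟶ X) {q : X.left} (h : q ∈ orb a x) :
    (Groth.L08.Homog.A a σ).left q ∈ orb a x := by
  obtain ⟨g, rfl⟩ := h
  exact ⟨(Groth.L08.ProfiniteImage.lt σ).left g, congr(($(Groth.L08.Homog.orbit_lt a x σ)).left g)⟩

omit [LocallyOfFiniteType G.hom] [QuasiCompact G.hom] [LocallyOfFiniteType X.hom] [QuasiCompact X.hom]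
  [IsAlgClosed k] in
theorem A_inv (σ : U1 ⟶ G) : Groth.L08.Homog.A a σ ≫ Groth.L08.Homog.A a σ⁻¹ = 𝟙 X := by
  rw [Groth.L08.Homog.comp_A, GrpObj.comp_inv]
  exact Groth.L25.Actions.inv_act a _ _

omit [LocallyOfFiniteType G.hom] [QuasiCompact G.hom] [LocallyOfFiniteType X.hom] [QuasiCompact X.hom]
  [IsAlgClosed k] in
theorem translate_mem_orb_iff (σ : U1 ⟶ G) (x : U1 ⟶ X) {q : X.left} :
    (Groth.L08.Homog.A a σ).left q ∈ orb a x ↔ q ∈ orb a x := by
  refine ⟨fun h => ?_, translate_mem_orb a σ x⟩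
  have h' := translate_mem_orb a σ⁻¹ x h
  rwa [show (Groth.L08.Homog.A a σ⁻¹).left ((Groth.L08.Homog.A a σ).left q) = q from
    congr(($(A_inv a σ)).left q)] at h'

theorem eq_of_isOpen [IrreducibleSpace X.left] (x y : U1 ⟶ X) (hx : IsOpen (orb a x)) (hy : IsOpen (orb a y)) :
    orb a x = orb a y := by
  obtain ⟨p, -, hp⟩ := (IrreducibleSpace.isIrreducible_univ X.left).isPreirreducible _ _ hx hy
    ⟨ptOf x, trivial, mem_orb_self a x⟩ ⟨ptOf y, trivial, mem_orb_self a y⟩
  obtain ⟨z, hz1, hz2⟩ := exists_pt_mem (hx.inter hy).isLocallyClosed ⟨p, hp⟩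
  rw [← orb_eq_of_mem a x z hz1, orb_eq_of_mem a y z hz2]

variable [IrreducibleSpace G.left]

/-- the fibres of an orbit map have dimension at most `dim G - dim orbit` -/
theorem dimLE_orbit_fibre (x y : U1 ⟶ X) {gd d m : ℕ} (hg : topologicalKrullDim G.left = (gd : WithBot ℕ∞))
    (hd : topologicalKrullDim (closure (orb a x)) = (d : WithBot ℕ∞)) (hm : gd ≤ m + d) :
    DimLE ((a.orbitMap x).left ⁻¹' {ptOf y}) m := by
  intro ξ hξ
  letI : G.left.Over (Spec (CommRingCat.of k)) := ⟨G.hom⟩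
  letI : X.left.Over (Spec (CommRingCat.of k)) := ⟨X.hom⟩
  haveI : LocallyOfFiniteType (G.left ↘ Spec (CommRingCat.of k)) := ‹LocallyOfFiniteType G.hom›
  haveI : LocallyOfFiniteType (X.left ↘ Spec (CommRingCat.of k)) := ‹LocallyOfFiniteType X.hom›
  haveI : JacobsonSpace G.left := LocallyOfFiniteType.jacobsonSpace G.hom
  let o := a.orbitMap x
  let gpt := genericPoint G.left
  obtain ⟨D, hgptD, hD⟩ := Groth.L22.FibreBound.exists_generic_bound k o.left (Over.w o) gpt
  obtain ⟨g, hg'⟩ := exists_pt_mem (X := G) isClosed_closure.isLocallyClosed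
    ⟨ξ, subset_closure (Set.mem_singleton ξ)⟩
  obtain ⟨h, hh⟩ := exists_pt_mem (X := G) (O := (D : Set G.left)) D.2.isLocallyClosed ⟨gpt, hgptD⟩
  let σ := h * g⁻¹
  let e := Groth.L08.ProfiniteImage.lt σ
  have hsp : e.left ξ ⤳ ptOf h := by
    have := (specializes_iff_mem_closure.2 hg').map e.left.continuous
    rwa [show e.left (ptOf g) = ptOf h by
      show ptOf (g ≫ e) = ptOf h
      rw [Groth.L08.ProfiniteImage.comp_lt, toUnit_one, Category.id_comp, _root_.inv_mul_cancel_right]] at this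
  have hoξ : o.left (e.left ξ) = (Groth.L08.Homog.A a σ).left (ptOf y) := by
    rw [← show o.left ξ = ptOf y from hξ]
    exact congr(($(Groth.L08.Homog.orbit_lt a x σ)).left ξ)
  have hcl : IsClosed ({o.left (e.left ξ)} : Set X.left) := by
    rw [hoξ]
    exact isClosed_pt (y ≫ Groth.L08.Homog.A a σ)
  have hcgpt : closure ({gpt} : Set G.left) = Set.univ := genericPoint_closure _
  have h1 : topologicalKrullDim (closure ({gpt} : Set G.left)) = (gd : WithBot ℕ∞) := by
    rw [hcgpt, (Homeomorph.Set.univ G.left).isHomeomorph.topologicalKrullDim_eq, hg]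
  have h2 : topologicalKrullDim (closure ({o.left gpt} : Set X.left)) = (d : WithBot ℕ∞) := by
    rw [← hd]
    suffices e : closure ({o.left gpt} : Set X.left) = closure (orb a x) by rw [e]
    refine (closure_mono (t := orb a x) (Set.singleton_subset_iff.2 ⟨gpt, rfl⟩)).antisymm (closure_minimal ?_ isClosed_closure)
    rintro _ ⟨w, rfl⟩
    exact specializes_iff_mem_closure.1 (((genericPoint_spec G.left).specializes trivial).map o.left.continuous)
  obtain ⟨c, hc⟩ := exists_cdim (A := G) (e.left ξ)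
  have hb := hD (e.left ξ) (hsp.mem_open D.2 hh) ((genericPoint_spec G.left).specializes trivial) gd d c 0 h1 h2 hc
    (cdim_closed hcl)
  -- translate back
  have hback : topologicalKrullDim (closure ({ξ} : Set G.left)) = (c : WithBot ℕ∞) := by
    rw [← hc]
    have he : (Groth.L08.ProfiniteImage.lt σ⁻¹).left (e.left ξ) = ξ := by
      have : e ≫ Groth.L08.ProfiniteImage.lt σ⁻¹ = 𝟙 G := by
        rw [Groth.L08.ProfiniteImage.comp_lt]
        simp only [e, Groth.L08.ProfiniteImage.lt, ← _root_.mul_assoc, GrpObj.comp_inv, inv_mul_cancel, _root_.one_mul]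
      exact congr(($this).left ξ)
    refine le_antisymm ?_ ?_
    · have := dimLE_image (Groth.L08.ProfiniteImage.lt σ⁻¹) (S := {e.left ξ}) (m := c)
        (by rintro _ rfl; exact hc.le) ξ ((Set.mem_image _ _ _).2 ⟨e.left ξ, rfl, he⟩)
      exact hc ▸ this
    · obtain ⟨c', hc'⟩ := exists_cdim (A := G) ξ
      rw [hc']
      exact dimLE_image e (S := {ξ}) (m := c') (by rintro _ rfl; exact hc'.le) (e.left ξ) ((Set.mem_image _ _ _).2 ⟨ξ, rfl, rfl⟩)
  rw [hback]
  exact_mod_cast show c ≤ m by omega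

/-- the set of pairs `(g, y)` with `y ∈ Z₁` and `g y ∈ Z₂` -/
def inc (Z₁ Z₂ : Set X.left) : Set (G ⊗ X).left :=
  (snd G X).left ⁻¹' Z₁ ∩ a.act.left ⁻¹' Z₂

omit [LocallyOfFiniteType G.hom] [QuasiCompact G.hom] [LocallyOfFiniteType X.hom] [QuasiCompact X.hom]
  [IrreducibleSpace G.left] [IsAlgClosed k] in
theorem isLocallyClosed_inc {Z₁ Z₂ : Set X.left} (h1 : IsLocallyClosed Z₁) (h2 : IsLocallyClosed Z₂) :
    IsLocallyClosed (inc a Z₁ Z₂) :=
  (h1.preimage (snd G X).left.continuous).inter (h2.preimage a.act.left.continuous)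

theorem dimLE_inc (x : U1 ⟶ X) {Z₁ Z₂ : Set X.left} (h1 : IsLocallyClosed Z₁) (h2 : IsLocallyClosed Z₂)
    (hs1 : Z₁ ⊆ orb a x) {n₁ n₂ gd d m : ℕ} (hn1 : DimLE Z₁ n₁) (hn2 : DimLE Z₂ n₂)
    (hg : topologicalKrullDim G.left = (gd : WithBot ℕ∞))
    (hd : topologicalKrullDim (closure (orb a x)) = (d : WithBot ℕ∞)) (hm : gd ≤ m + d) :
    DimLE (inc a Z₁ Z₂) (n₁ + n₂ + m) := by
  haveI : LocallyOfFiniteType (G ⊗ X).hom := Groth.L19.AlgGrpBasic.lft_tensor G X
  haveI : LocallyOfFiniteType (X ⊗ X).hom := Groth.L19.AlgGrpBasic.lft_tensor X X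
  haveI : QuasiCompact (G ⊗ X).hom := Groth.L19.AlgGrpBasic.qc_tensor G X
  haveI : QuasiCompact (X ⊗ X).hom := Groth.L19.AlgGrpBasic.qc_tensor X X
  haveI := Groth.L19.AlgGrpBasic.noetherianSpace_left (X := X ⊗ X)
  haveI := Groth.L19.AlgGrpBasic.noetherianSpace_left (X := G ⊗ X)
  let T : Set (X ⊗ X).left := (fst X X).left ⁻¹' Z₁ ∩ (snd X X).left ⁻¹' Z₂
  have hTlc : IsLocallyClosed T := (h1.preimage (fst X X).left.continuous).inter (h2.preimage (snd X X).left.continuous)
  have hT : DimLE T (n₁ + n₂) := by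
    refine dimLE_of_fibres (fst X X) (Groth.L06.Constr.isConstructible_of_isLocallyClosed hTlc)
      (fun p hp => hp.1) hn1 fun p _ hp => ?_
    obtain ⟨q, rfl⟩ := Groth.L19.AlgGrpBasic.exists_point_of_closed hp
    have hq : IsClosed ({ptOf (q ≫ fst X X)} : Set X.left) := isClosed_pt _
    refine dimLE_of_fibres (snd X X) (m := 0) (Groth.L06.Constr.isConstructible_of_isLocallyClosed
      (hTlc.inter (hq.preimage (fst X X).left.continuous).isLocallyClosed)) (fun p hp => hp.1.2) hn2 fun r _ hr => ?_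
    obtain ⟨r, rfl⟩ := Groth.L19.AlgGrpBasic.exists_point_of_closed hr
    refine dimLE_subsingleton_pts ((hq.preimage (fst X X).left.continuous).inter
      ((isClosed_pt (r ≫ snd X X)).preimage (snd X X).left.continuous)) (fun p hp => ⟨hp.1.2, hp.2⟩) ?_
    intro s t hs ht
    apply CartesianMonoidalCategory.hom_ext
    · exact pt_ext (hs.1.trans (Eq.symm ht.1))
    · exact pt_ext (hs.2.trans (Eq.symm ht.2))
  let Ψ : G ⊗ X ⟶ X ⊗ X := lift (snd G X) a.act
  have hΨ1 : ∀ w, (fst X X).left (Ψ.left w) = (snd G X).left w := fun w => congr(($(lift_fst (snd G X) a.act)).left w)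
  have hΨ2 : ∀ w, (snd X X).left (Ψ.left w) = a.act.left w := fun w => congr(($(lift_snd (snd G X) a.act)).left w)
  refine dimLE_of_fibres Ψ (Groth.L06.Constr.isConstructible_of_isLocallyClosed (isLocallyClosed_inc a h1 h2))
    (T := T) (fun w hw => ⟨Set.mem_preimage.2 ((hΨ1 w).symm ▸ hw.1), Set.mem_preimage.2 ((hΨ2 w).symm ▸ hw.2)⟩) hT fun p hpS hp => ?_
  obtain ⟨q, rfl⟩ := Groth.L19.AlgGrpBasic.exists_point_of_closed hp
  let y := q ≫ snd G X
  let z := q ≫ a.act
  let C : Set (G ⊗ X).left := (snd G X).left ⁻¹' {ptOf y} ∩ a.act.left ⁻¹' {ptOf z}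
  have hC : IsClosed C := ((isClosed_pt y).preimage (snd G X).left.continuous).inter
    ((isClosed_pt z).preimage a.act.left.continuous)
  have hsub : inc a Z₁ Z₂ ∩ Ψ.left ⁻¹' {Ψ.left (ptOf q)} ⊆ C := fun w hw =>
    ⟨(hΨ1 w).symm.trans ((congrArg (fst X X).left hw.2).trans (hΨ1 _)),
      (hΨ2 w).symm.trans ((congrArg (snd X X).left hw.2).trans (hΨ2 _))⟩
  refine DimLE.mono ?_ hsub (le_refl (m + 0))
  have hy : orb a y = orb a x := orb_eq_of_mem a x y (hs1 hpS.1)
  have hCT : C ⊆ (fst G X).left ⁻¹' ((a.orbitMap y).left ⁻¹' {ptOf z}) := by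
    refine subset_of_pts hC (((isClosed_pt z).preimage (a.orbitMap y).left.continuous).preimage
      (fst G X).left.continuous) fun s hs => ?_
    show ptOf ((s ≫ fst G X) ≫ a.orbitMap y) = ptOf z
    rw [pt_orbitMap, ← pt_ext (s := s ≫ snd G X) (t := y) hs.1, lift_comp_fst_snd]
    exact hs.2
  refine dimLE_of_fibres (fst G X) (Groth.L06.Constr.isConstructible_of_isClosed hC) hCT
    (dimLE_orbit_fibre a y z hg (by rw [hy, hd]) hm) fun r _ hr => ?_
  obtain ⟨r, rfl⟩ := Groth.L19.AlgGrpBasic.exists_point_of_closed hr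
  refine dimLE_subsingleton_pts (hC.inter ((isClosed_pt (r ≫ fst G X)).preimage (fst G X).left.continuous))
    subset_rfl ?_
  intro s t hs ht
  apply CartesianMonoidalCategory.hom_ext
  · exact pt_ext (hs.2.trans (Eq.symm ht.2))
  · exact pt_ext (hs.1.1.trans (Eq.symm ht.1.1))

omit [IrreducibleSpace G.left] in
theorem isConstructible_image_fst {S : Set (G ⊗ X).left} (hS : IsLocallyClosed S) :
    IsConstructible ((fst G X).left '' S) := by
  haveI : LocallyOfFiniteType (G ⊗ X).hom := Groth.L19.AlgGrpBasic.lft_tensor G X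
  haveI : QuasiCompact (G ⊗ X).hom := Groth.L19.AlgGrpBasic.qc_tensor G X
  haveI := Groth.L19.AlgGrpBasic.noetherianSpace_left (X := G ⊗ X)
  haveI : IsLocallyNoetherian G.left := LocallyOfFiniteType.isLocallyNoetherian G.hom
  haveI : LocallyOfFiniteType ((fst G X).left ≫ G.hom) := by rw [Over.w]; infer_instance
  haveI : LocallyOfFiniteType (fst G X).left := locallyOfFiniteType_of_comp (fst G X).left G.hom
  haveI : CompactSpace G.left := QuasiCompact.compactSpace_of_compactSpace G.hom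
  haveI : LocallyOfFinitePresentation (fst G X).left := inferInstance
  haveI : QuasiCompact (fst G X).left := Groth.L19.AlgGrpBasic.qc_left_field _
  exact Scheme.Hom.isConstructible_image _ (Groth.L06.Constr.isConstructible_of_isLocallyClosed hS)

/-- few pairs: a nonempty open of the group avoids the incidence set -/
theorem exists_open_avoid {S : Set (G ⊗ X).left} (hS : IsLocallyClosed S) {N gd : ℕ}
    (hN : DimLE S N) (hg : topologicalKrullDim G.left = (gd : WithBot ℕ∞)) (hlt : N < gd) :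
    ∃ V : G.left.Opens, (V : Set G.left).Nonempty ∧ ∀ w ∈ S, (fst G X).left w ∉ V := by
  haveI : LocallyOfFiniteType (G ⊗ X).hom := Groth.L19.AlgGrpBasic.lft_tensor G X
  have h := not_dense_of_dimLE (A := G) (isConstructible_image_fst hS) (dimLE_image (fst G X) hN)
    (by rw [hg]; exact_mod_cast hlt.not_ge)
  exact ⟨⟨_, isClosed_closure.isOpen_compl⟩, Set.nonempty_compl.2 h, fun w hw h' => h' (subset_closure ⟨w, hw, rfl⟩)⟩

end Groth.L06.Kleiman
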